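import Mathlib

set_option autoImplicit false
set_option maxHeartbeats 1000000
universe u
open CategoryTheory CategoryTheory.Limits AlgebraicGeometry

namespace Groth.Agent.NeronSigma29

def Ext {Y N B : Scheme.{u}} (F : N ⟶ B) (U : B.Opens) (y : Y ⟶ B) : Prop :=
  (∀ g g' : Y ⟶ N, g ≫ F = y → g' ≫ F = y → (y ⁻¹ᵁ U).ι ≫ g = (y ⁻¹ᵁ U).ι ≫ g' → g = g') ∧
  (∀ h : (y ⁻¹ᵁ U).toScheme ⟶ N, h ≫ F = (y ⁻¹ᵁ U).ι ≫ y →
    ∃ g : Y ⟶ N, g ≫ F = y ∧ (y ⁻¹ᵁ U).ι ≫ g = h)

lemma map_left_fst {B U : Scheme.{u}} (j : U ⟶ B) {Y N : Over B} (g : Y ⟶ N) :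
    ((Over.pullback j).map g).left ≫ pullback.fst N.hom j = pullback.fst Y.hom j ≫ g.left :=
  pullback.lift_fst _ _ _

lemma map_eq_iff {B U P : Scheme.{u}} (j : U ⟶ B) {Y N : Over B} (p : P ⟶ Y.left)
    (e : P ≅ pullback Y.hom j) (he : e.hom ≫ pullback.fst Y.hom j = p)
    (g : Y ⟶ N) (h : (Over.pullback j).obj Y ⟶ (Over.pullback j).obj N) :
    (Over.pullback j).map g = h ↔ p ≫ g.left = e.hom ≫ h.left ≫ pullback.fst N.hom j := by
  constructor
  · intro heq
    rw [← heq, map_left_fst, reassoc_of% he]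
  · intro heq
    apply Over.OverMorphism.ext
    refine pullback.hom_ext ?_ ?_
    · rw [← cancel_epi e.hom, ← heq, map_left_fst, reassoc_of% he]
    · exact (Over.w ((Over.pullback j).map g)).trans (Over.w h).symm

lemma bijective_iff {B : Scheme.{u}} (N : Over B) (U : B.Opens) (Y : Over B) :
    Function.Bijective (fun g : Y ⟶ N => (Over.pullback U.ι).map g) ↔ Ext N.hom U Y.hom := by
  let e := (isPullback_morphismRestrict Y.hom U).flip.isoPullback
  have he : e.hom ≫ pullback.fst Y.hom U.ι = (Y.hom ⁻¹ᵁ U).ι :=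
    IsPullback.isoPullback_hom_fst _
  constructor
  · intro hb
    refine ⟨fun g g' hg hg' h => ?_, fun h hh => ?_⟩
    · have hmm : (Over.pullback U.ι).map (Over.homMk g hg : Y ⟶ N)
          = (Over.pullback U.ι).map (Over.homMk g' hg' : Y ⟶ N) := by
        rw [map_eq_iff U.ι _ e he]
        rw [map_left_fst, reassoc_of% he]
        exact h
      exact congrArg (·.left) (hb.1 hmm)
    · have hc : (e.inv ≫ h) ≫ N.hom = pullback.snd Y.hom U.ι ≫ U.ι := by
        rw [Category.assoc, hh, ← he, Category.assoc, e.inv_hom_id_assoc, pullback.condition]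
      let m : (Over.pullback U.ι).obj Y ⟶ (Over.pullback U.ι).obj N :=
        Over.homMk (pullback.lift (e.inv ≫ h) (pullback.snd Y.hom U.ι) hc)
          (pullback.lift_snd _ _ hc)
      obtain ⟨g, hg⟩ := hb.2 m
      refine ⟨g.left, Over.w g, ?_⟩
      rw [(map_eq_iff U.ι _ e he g m).mp hg]
      have hm : m.left ≫ pullback.fst N.hom U.ι = e.inv ≫ h := pullback.lift_fst _ _ hc
      rw [hm, e.hom_inv_id_assoc]
  · intro hE
    refine ⟨fun g g' h => ?_, fun h => ?_⟩
    · apply Over.OverMorphism.ext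
      refine hE.1 _ _ (Over.w g) (Over.w g') ?_
      rw [(map_eq_iff U.ι _ e he g _).mp h, map_left_fst, reassoc_of% he]
    · obtain ⟨g, hg, hg'⟩ := hE.2 (e.hom ≫ h.left ≫ pullback.fst N.hom U.ι) (by
        have hw : h.left ≫ pullback.snd N.hom U.ι = pullback.snd Y.hom U.ι := Over.w h
        rw [Category.assoc, Category.assoc, pullback.condition, reassoc_of% hw,
          ← pullback.condition, reassoc_of% he])
      exact ⟨Over.homMk g hg, (map_eq_iff U.ι _ e he _ h).mpr hg'⟩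

variable {I : Type u} {B N : I → Scheme.{u}} (f : ∀ i, N i ⟶ B i)

lemma isPullback_sigma (i : I) :
    IsPullback (f i) (Sigma.ι N i) (Sigma.ι B i) (Limits.Sigma.map f) := by
  refine IsOpenImmersion.isPullback _ _ _ _ (Sigma.ι_map f i) ?_
  apply SetLike.coe_injective
  ext x
  obtain ⟨⟨j, z⟩, rfl⟩ := (sigmaMk N).surjective x
  have hz : sigmaMk N ⟨j, z⟩ = (Sigma.ι N j).base z := sigmaMk_mk N j z
  rw [hz]
  have hw : (Limits.Sigma.map f).base ((Sigma.ι N j).base z) = (Sigma.ι B j).base ((f j).base z) := by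
    rw [← Scheme.Hom.comp_apply, ← Scheme.Hom.comp_apply, Sigma.ι_map f j]
  constructor
  · intro hx
    obtain ⟨b, hb⟩ := hx
    rw [hw] at hb
    obtain ⟨rfl⟩ := (sigmaι_eq_iff B _ _ _ _).mp hb
    exact ⟨z, rfl⟩
  · intro hx
    obtain ⟨z', hz'⟩ := hx
    obtain ⟨rfl⟩ := (sigmaι_eq_iff N _ _ _ _).mp hz'
    exact ⟨_, hw.symm⟩

lemma smooth_iff : Smooth (Limits.Sigma.map f) ↔ ∀ i, Smooth (f i) := by
  constructor
  · intro h i
    exact MorphismProperty.of_isPullback (isPullback_sigma f i).flip h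
  · intro h
    refine IsZariskiLocalAtTarget.of_openCover (sigmaOpenCover B) fun i => ?_
    show Smooth (pullback.snd (Limits.Sigma.map f) (Sigma.ι B i))
    have : pullback.snd (Limits.Sigma.map f) (Sigma.ι B i)
        = (isPullback_sigma f i).flip.isoPullback.inv ≫ f i := by
      rw [IsPullback.isoPullback_inv_snd]
    rw [this]
    have := h i
    infer_instance

lemma forall_iff (U : (∐ B).Opens) :
    (∀ (Y : Scheme.{u}) (y : Y ⟶ ∐ B), Smooth y → Ext (Limits.Sigma.map f) U y) ↔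
    ∀ i (Y : Scheme.{u}) (y : Y ⟶ B i), Smooth y → Ext (f i) ((Sigma.ι B i) ⁻¹ᵁ U) y := by
  constructor
  · intro H i Y y hy
    have hs : Smooth (y ≫ Sigma.ι B i) := inferInstance
    obtain ⟨hinj, hsurj⟩ := H Y (y ≫ Sigma.ι B i) hs
    refine ⟨fun g g' hg hg' h => ?_, fun h hh => ?_⟩
    · rw [← cancel_mono (Sigma.ι N i)]
      refine hinj _ _ ?_ ?_ ?_
      · simp [Sigma.ι_map, reassoc_of% hg]
      · simp [Sigma.ι_map, reassoc_of% hg']
      · exact congrArg (· ≫ Sigma.ι N i) h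
    · obtain ⟨G, hG, hG'⟩ := hsurj (h ≫ Sigma.ι N i) (by
        rw [Category.assoc, Sigma.ι_map, ← Category.assoc]
        exact (congrArg (· ≫ Sigma.ι B i) hh).trans (Category.assoc _ _ _))
      refine ⟨(isPullback_sigma f i).lift y G hG.symm, IsPullback.lift_fst _ _ _ _, ?_⟩
      rw [← cancel_mono (Sigma.ι N i)]
      rw [Category.assoc, IsPullback.lift_snd]
      exact hG'
  · intro H Y y hy
    let 𝒰 := (sigmaOpenCover B).pullback₁ y
    have hp : ∀ i, pullback.fst y (Sigma.ι B i) ≫ y = pullback.snd y (Sigma.ι B i) ≫ Sigma.ι B i :=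
      fun i => pullback.condition
    have hE : ∀ i, Ext (f i) ((Sigma.ι B i) ⁻¹ᵁ U) (pullback.snd y (Sigma.ι B i)) :=
      fun i => H i _ _ inferInstance
    have hW : ∀ i, (pullback.snd y (Sigma.ι B i)) ⁻¹ᵁ ((Sigma.ι B i) ⁻¹ᵁ U)
        = (pullback.fst y (Sigma.ι B i)) ⁻¹ᵁ (y ⁻¹ᵁ U) := by
      intro i
      rw [← Scheme.Hom.comp_preimage, ← Scheme.Hom.comp_preimage, pullback.condition]
    let W := fun i => (pullback.snd y (Sigma.ι B i)) ⁻¹ᵁ ((Sigma.ι B i) ⁻¹ᵁ U)
    have hr : ∀ i, ∃ r : (W i).toScheme ⟶ (y ⁻¹ᵁ U).toScheme,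
        r ≫ (y ⁻¹ᵁ U).ι = (W i).ι ≫ pullback.fst y (Sigma.ι B i) :=
      fun i => ⟨(pullback.fst y (Sigma.ι B i)).resLE (y ⁻¹ᵁ U) (W i) (hW i).le, by simp⟩
    choose r hr using hr
    refine ⟨fun g g' hg hg' h => ?_, fun h hh => ?_⟩
    · apply Scheme.Cover.hom_ext 𝒰
      intro i
      show pullback.fst y (Sigma.ι B i) ≫ g = pullback.fst y (Sigma.ι B i) ≫ g'
      let a := (isPullback_sigma f i).lift (pullback.snd y (Sigma.ι B i))
        (pullback.fst y (Sigma.ι B i) ≫ g) (by rw [Category.assoc, hg, hp])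
      let a' := (isPullback_sigma f i).lift (pullback.snd y (Sigma.ι B i))
        (pullback.fst y (Sigma.ι B i) ≫ g') (by rw [Category.assoc, hg', hp])
      have ha : a ≫ Sigma.ι N i = _ := IsPullback.lift_snd _ _ _ _
      have ha' : a' ≫ Sigma.ι N i = _ := IsPullback.lift_snd _ _ _ _
      have : a = a' := by
        refine (hE i).1 a a' (IsPullback.lift_fst _ _ _ _) (IsPullback.lift_fst _ _ _ _) ?_
        rw [← cancel_mono (Sigma.ι N i), Category.assoc, Category.assoc, ha, ha']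
        show (W i).ι ≫ _ = (W i).ι ≫ _
        rw [← reassoc_of% (hr i), ← reassoc_of% (hr i), h]
      rw [← ha, ← ha', this]
    · have hk : ∀ i, (W i).ι ≫ pullback.snd y (Sigma.ι B i) ≫ Sigma.ι B i
          = (r i ≫ h) ≫ Limits.Sigma.map f := by
        intro i
        rw [Category.assoc, hh, reassoc_of% (hr i), hp]
      have hg : ∀ i, ∃ g : pullback y (Sigma.ι B i) ⟶ N i,
          g ≫ f i = pullback.snd y (Sigma.ι B i) ∧ (W i).ι ≫ g ≫ Sigma.ι N i = r i ≫ h := by
        intro i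
        obtain ⟨g, hg, hg'⟩ := (hE i).2
          ((isPullback_sigma f i).lift ((W i).ι ≫ pullback.snd y (Sigma.ι B i)) (r i ≫ h)
            (by rw [Category.assoc]; exact hk i)) (IsPullback.lift_fst _ _ _ _)
        refine ⟨g, hg, ?_⟩
        have := congrArg (· ≫ Sigma.ι N i) hg'
        simp only [Category.assoc, IsPullback.lift_snd] at this
        exact this
      choose g hg hg' using hg
      let G : Y ⟶ ∐ N := Scheme.Cover.glueMorphisms 𝒰 (fun i => g i ≫ Sigma.ι N i) (by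
        intro i j
        by_cases hij : i = j
        · subst hij
          have : pullback.fst (pullback.fst y (Sigma.ι B i)) (pullback.fst y (Sigma.ι B i))
              = pullback.snd _ _ := by
            rw [← cancel_mono (pullback.fst y (Sigma.ι B i)), pullback.condition]
          exact congrArg (· ≫ g i ≫ Sigma.ι N i) this
        · have hemp : IsEmpty ↑(pullback (𝒰.f i) (𝒰.f j)) := by
            refine isEmpty_of_commSq_sigmaι_of_ne (g := B)
              (a := pullback.fst (𝒰.f i) (𝒰.f j) ≫ pullback.snd y (Sigma.ι B i))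
              (b := pullback.snd (𝒰.f i) (𝒰.f j) ≫ pullback.snd y (Sigma.ι B j)) ⟨?_⟩ hij
            rw [Category.assoc, Category.assoc]
            refine (congrArg (pullback.fst (𝒰.f i) (𝒰.f j) ≫ ·) (hp i).symm).trans ?_
            refine Eq.trans ?_ (congrArg (pullback.snd (𝒰.f i) (𝒰.f j) ≫ ·) (hp j))
            exact pullback.condition_assoc y
          exact (isInitialOfIsEmpty (X := pullback (𝒰.f i) (𝒰.f j))).hom_ext _ _)
      have hG : ∀ i, pullback.fst y (Sigma.ι B i) ≫ G = g i ≫ Sigma.ι N i :=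
        fun i => Scheme.Cover.ι_glueMorphisms 𝒰 _ _ i
      refine ⟨G, ?_, ?_⟩
      · apply Scheme.Cover.hom_ext 𝒰
        intro i
        show pullback.fst y (Sigma.ι B i) ≫ G ≫ _ = pullback.fst y (Sigma.ι B i) ≫ y
        rw [reassoc_of% (hG i), Sigma.ι_map, reassoc_of% (hg i), hp]
      · apply Scheme.Cover.hom_ext (𝒰.pullback₁ (y ⁻¹ᵁ U).ι)
        intro i
        show pullback.fst (y ⁻¹ᵁ U).ι (pullback.fst y (Sigma.ι B i)) ≫ _
          = pullback.fst (y ⁻¹ᵁ U).ι (pullback.fst y (Sigma.ι B i)) ≫ _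
        rw [pullback.condition_assoc, hG i]
        have hrange : (pullback.snd (y ⁻¹ᵁ U).ι (pullback.fst y (Sigma.ι B i))) ⁻¹ᵁ (W i) = ⊤ := by
          rw [eq_top_iff]
          intro x _
          show (pullback.snd (y ⁻¹ᵁ U).ι (pullback.fst y (Sigma.ι B i))).base x ∈ W i
          simp only [W, hW i]
          show (pullback.fst y (Sigma.ι B i)).base _ ∈ y ⁻¹ᵁ U
          rw [← Scheme.Hom.comp_apply, ← pullback.condition, Scheme.Hom.comp_apply]
          exact Subtype.coe_prop _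
        let l := IsOpenImmersion.lift (W i).ι (pullback.snd (y ⁻¹ᵁ U).ι (pullback.fst y (Sigma.ι B i)))
          (by
            rintro _ ⟨x, rfl⟩
            simp only [Scheme.Opens.range_ι]
            exact (SetLike.ext_iff.mp hrange x).mpr trivial)
        have hl : l ≫ (W i).ι = _ := IsOpenImmersion.lift_fac _ _ _
        have hlr : l ≫ r i = pullback.fst (y ⁻¹ᵁ U).ι (pullback.fst y (Sigma.ι B i)) := by
          rw [← cancel_mono (y ⁻¹ᵁ U).ι, Category.assoc, hr i, reassoc_of% hl, pullback.condition]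
        rw [← hl, Category.assoc, hg' i, reassoc_of% hlr]

end Groth.Agent.NeronSigma29
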